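import Cfsg.Agent.H94.Sp.Mathieu
import Cfsg.Agent.H94.Sp.Janko
import Cfsg.Agent.CTwoTab.Co3
import Cfsg.Agent.KFacts.Co1D4.Main
import Cfsg.Agent.KFacts.Co1D4.Dodecad
import Cfsg.Agent.KFacts.CoTwo.QuotInst
import Cfsg.Agent.Co2Type.Setup

/-!
# Primes connected to 2 in Co1, Co2, Co3 (helper94)
-/

set_option autoImplicit false
set_option linter.unusedVariables false

namespace Cfsg.Agent.H94.PG.Sp

open Subgroup Cfsg

/-- a homomorphism of the centralizer of an involution -/
theorem nr_of_hom {G : Type*} [Group G] [Finite G] {t : G} (ht : orderOf t = 2) {U : Type*} [Group U]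
    (f : centralizer ({t} : Set G) →* U) (hf : Function.Surjective f) {r : ℕ} (hr : r.Prime) (h : r ∣ Nat.card U) :
    Nr G r := by
  refine nr_of_cent ht hr (h.trans ?_)
  have h1 := Subgroup.card_map_dvd (⊤ : Subgroup (centralizer ({t} : Set G))) f
  rwa [← MonoidHom.range_eq_map, MonoidHom.range_eq_top.2 hf, Subgroup.card_top, Subgroup.card_top] at h1

/-! ### Co3 -/

theorem cent_co3 {K : Type*} [Group K] (h : Spor.IsoCo3 K) {r : ℕ} (hr : r.Prime) (hd : r ∣ 2903040 * 95040) :
    Nr K r := by
  obtain ⟨e⟩ := h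
  rw [nr_congr (e.trans Cfsg.Agent.SporRec.Co3.Model.equivCo3.symm)]
  have := CTwoTab.Co3.finite_G3
  obtain ⟨w, D⟩ := CTwoTab.Co3.exists_data
  rcases hr.dvd_mul.1 hd with h1 | h1
  · obtain ⟨π, N⟩ := D.ns
    exact nr_of_cent D.t2 hr (by rw [CTwoTab.Co3.card_of_NS N]; exact h1)
  · obtain ⟨f, hf, hker⟩ := D.hom
    have hw : orderOf w = 2 := by
      have hs := D.simple
      have hna : ∃ a b : Spor.M12, a * b ≠ b * a := by
        by_contra hcon
        push Not at hcon
        let _ : CommGroup Spor.M12 := { (inferInstance : Group Spor.M12) with mul_comm := hcon }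
        have hf' : Finite Spor.M12 := Nat.finite_of_card_ne_zero (by rw [D.card]; norm_num)
        have hp : (Nat.card Spor.M12).Prime := IsSimpleGroup.prime_card
        rw [D.card] at hp
        norm_num at hp
      have hZ : center Spor.M12 = ⊥ := by
        rcases (inferInstance : (center Spor.M12).Normal).eq_bot_or_eq_top with h | h
        · exact h
        · obtain ⟨a, b, hab⟩ := hna
          have ha : b ∈ center Spor.M12 := by rw [h]; exact mem_top _
          exact absurd (mem_center_iff.1 ha a) hab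
      let w' : centralizer ({w} : Set (_ : Type _)) := ⟨w, mem_centralizer_singleton_iff.2 rfl⟩
      have hfw : f w' = 1 := by
        have : f w' ∈ center Spor.M12 := by
          rw [mem_center_iff]
          intro u
          obtain ⟨c, rfl⟩ := hf u
          rw [← map_mul, ← map_mul]
          exact congrArg f (Subtype.ext (mem_centralizer_singleton_iff.1 c.2))
        rwa [hZ, mem_bot] at this
      have hw1 : w ≠ 1 := by
        rintro rfl
        have hinj : Function.Injective f := by
          rw [injective_iff_map_eq_one]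
          intro a ha
          rcases hker a ha with h | h
          · exact h
          · exact Subtype.ext h
        have h2 := Nat.card_congr (Equiv.ofBijective f ⟨hinj, hf⟩)
        have h3 : centralizer ({1} : Set (SporRec.Co3.Chain.G3)) = ⊤ := by
          rw [eq_top_iff]
          intro x _
          rw [mem_centralizer_singleton_iff]
          simp
        rw [h3, Subgroup.card_top, D.card, SporRec.Co3.Chain.isCo3_G3.2] at h2
        norm_num at h2
      refine orderOf_two ?_ hw1
      have h2 : f w'⁻¹ = 1 := by rw [map_inv, hfw, inv_one]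
      rcases hker _ h2 with h | h
      · exfalso
        apply hw1
        have h3 := congrArg Subtype.val h
        exact inv_eq_one.1 h3
      · have h3 : w⁻¹ = w := h
        nth_rw 1 [← h3]
        exact inv_mul_cancel w
    exact nr_of_hom hw f hf hr (by rw [D.card]; exact h1)

/-! ### Co2 -/

theorem cent_co2 {K : Type*} [Group K] (h : Spor.IsoCo2 K) {r : ℕ} (hr : r.Prime) (hd : r ∣ 1451520) :
    Nr K r := by
  obtain ⟨e⟩ := h
  rw [nr_congr e]
  have := Cfsg.Agent.Schreier.CoTwoStab.finite
  have D := KFacts.CoTwo.QuotInst.dataT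
  obtain ⟨π, hπ, -⟩ := D.quot
  exact nr_of_hom (orderOf_two D.large.z_sq D.large.z_ne) π hπ hr (by
    rw [show Nat.card (Matrix.symplecticGroup (Fin 3) (ZMod 2)) = 1451520 from Co2Type.Setup.card_sp6]; exact hd)

/-! ### Co1 -/

def t11 : ℕ := 917257340682458324111938027999970701

open Cfsg.Agent.SporadicA.GolayBase Cfsg.Agent.SporadicA.GolayPerm
open Cfsg.Agent.SporadicStructure.M24El
open Cfsg.Agent.SporadicA.Co0Mono Cfsg.Agent.SporadicA.Co1Simple
open Cfsg.Agent.Co2Type.Mono
open Cfsg.Agent.CoOneType.SignFacts (wt)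
open Cfsg.Agent.CoOneType.ClosingFacts (mk mk_mul mk_inv exists_mk mk_eq_one mk_eq mk_add_allOne)
open Cfsg.Agent.KFacts.Co1D4.Dodecad (dm al code_dm wt_dm code_al)

theorem co1_eleven [Finite Spor.Co1] : Nr Spor.Co1 11 := by
  have hT : ok t11 = true := by decide +kernel
  have hd : pimg t11 dm = dm := by decide +kernel
  have h1 : permCo0 (el t11) * signCo0 (cd dm) = signCo0 (cd dm) * permCo0 (el t11) := by
    rw [perm_mul_sign, wordPerm_cd hT code_dm, hd]
  have hel : (el t11) ^ 11 = 1 := by
    apply Subtype.ext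
    have h2 := KFacts.MM.El.coe_el hT
    rw [Subgroup.coe_pow, h2, ← pr_replicate]
    have h3 := KFacts.MM.El.pr_of_weq (l := List.replicate 11 t11) (m := []) (by decide +kernel) (by decide +kernel)
      (by decide +kernel)
    rw [h3, KFacts.MM.El.pr_nil]; rfl
  have hx : (mk (permCo0 (el t11))) ^ 11 = 1 := by
    have : (mk (permCo0 (el t11))) ^ 11 = mk (permCo0 ((el t11) ^ 11)) := by
      rw [map_pow]; rfl
    rw [this, hel, map_one]; rfl
  have hx1 : mk (permCo0 (el t11)) ≠ 1 := by
    intro h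
    have hm : isCode 9347075 = true := by decide +kernel
    have h2 : mk (permCo0 (el t11)) * mk (signCo0 (cd 9347075)) * (mk (permCo0 (el t11)))⁻¹ =
        mk (signCo0 (cd (pimg t11 9347075))) := by
      rw [← mk_inv, ← mk_mul, ← mk_mul, perm_mul_sign_mul_inv, wordPerm_cd hT hm]
    rw [h, one_mul, inv_one, mul_one] at h2
    have hm' := isCode_pimg hT hm
    rcases KFacts.Co1D4.DodBal.mk_sign_eq h2 with h3 | h3
    · exact absurd (cd_inj hm hm' h3) (by decide +kernel)
    · rw [← Cfsg.Agent.CoOneType.InvMain.cd_all, show (16777215 : ℕ) = al from rfl, ← cd_xor hm' code_al] at h3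
      exact absurd (cd_inj hm (isCode_xor hm' code_al) h3) (by decide +kernel)
  have ht : mk (signCo0 (cd dm)) * mk (signCo0 (cd dm)) = 1 := KFacts.Co1D4.Dodecad.mk_sign_sq _
  have ht1 : mk (signCo0 (cd dm)) ≠ 1 := by
    intro h
    rcases (Cfsg.Agent.CoOneType.ClosingFacts.mk_eq_one _).1 h with h2 | h2
    · exact Cfsg.Agent.OddHalf.D9.Co1.Facts.sign_ne_one (by rw [wt_dm]; norm_num) h2
    · exact Cfsg.Agent.OddHalf.D9.Co1.Facts.sign_ne_ζ (by rw [wt_dm]; norm_num) h2
  have : Fact (Nat.Prime 11) := ⟨by norm_num⟩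
  refine nr_of_dvd (x := mk (permCo0 (el t11))) (y := mk (signCo0 (cd dm))) (by norm_num) ?_ ?_ ?_
  · show mk (permCo0 (el t11)) * mk (signCo0 (cd dm)) = mk (signCo0 (cd dm)) * mk (permCo0 (el t11))
    rw [← mk_mul, h1, mk_mul]
  · rw [orderOf_eq_prime hx hx1]
  · rw [orderOf_two ht ht1]

theorem cent_co1 {K : Type*} [Group K] [Finite K] (h : Spor.IsoCo1 K) {r : ℕ} (hr : r.Prime)
    (hd : r ∣ 251596800 * 11) : Nr K r := by
  obtain ⟨e⟩ := h
  rw [nr_congr e]
  have hf : Finite Spor.Co1 := Finite.of_equiv _ e.toEquiv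
  rcases hr.dvd_mul.1 hd with h1 | h1
  · exact nr_of_le (t := KFacts.Co1D4.TwoB.w) (orderOf_two KFacts.Co1D4.TwoB.ww KFacts.Co1D4.TwoB.w_ne) hr
      (H := KFacts.Co1D4.GTwo.L) (fun x hx => KFacts.Co1D4.TwoB.Lw x hx) (by rw [KFacts.Co1D4.GTwo.card_L]; exact h1)
  · rw [(Nat.prime_dvd_prime_iff_eq hr (by norm_num)).1 h1]
    exact co1_eleven

end Cfsg.Agent.H94.PG.Sp
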