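import Cfsg.Agent.H94.Sp.Base
import Cfsg.Agent.CTwoTab.Fi22
import Cfsg.Agent.CTwoTab.Fi23Fin
import Cfsg.Agent.CTwoTab.FiTF

/-!
# Primes adjacent to 2 in Fi22, Fi23, Fi24' (helper94)
-/

set_option autoImplicit false
set_option linter.unusedVariables false

namespace Cfsg.Agent.H94.PG.Sp

open Subgroup Cfsg

/-! ### Fi22 -/

theorem cent_fi22 {K : Type*} [Group K] (h : Spor.IsoFi22 K) {r : ℕ} (hr : r.Prime) (hd : r ∣ 18393661440) :
    Nr K r := by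
  obtain ⟨e⟩ := h
  rw [nr_congr e]
  have hf : Finite Spor.Fi22 := CTwoTab.Fi22.finite
  have hne : (Cfsg.Agent.R01.Fi22Facts.T).Nonempty := by
    rw [← Set.ncard_pos (Set.toFinite _), Cfsg.Agent.R01.Fi22Facts.ncard_T]
    norm_num
  obtain ⟨d, hdT⟩ := hne
  obtain ⟨b, c, ht⟩ := StdFi22.MainFi22.bas.exists_tri hdT
  obtain ⟨R, F⟩ := CTwoTab.Fi22.facts hdT ht.my ht.xy ht.cxy
  exact nr_of_cent (orderOf_two F.dd F.d_ne) hr (by rw [CTwoTab.Fi22.card_cent F]; exact hd)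

/-! ### Fi23 -/

theorem cent_fi23 {K : Type*} [Group K] (h : Spor.IsoFi23 K) {r : ℕ} (hr : r.Prime) (hd : r ∣ 64561751654400) :
    Nr K r := by
  obtain ⟨e⟩ := h
  rw [nr_congr e]
  have hf : Finite Spor.Fi23 := CTwoTab.Fi23Res.finite_Fi23
  obtain ⟨q, hq, -, -⟩ := CTwoTab.Fi23.exists_q
  refine nr_of_cent (t := Cfsg.Agent.Fischer.Fi23Z.z0) (orderOf_two KFacts.FiTTh.Cent.zz CTwoTab.Fi23.z0_one) hr ?_
  rw [← KFacts.FiTTh.Cent.K_eq]
  refine hd.trans ?_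
  have h1 := Subgroup.card_map_dvd (⊤ : Subgroup Cfsg.Agent.Fischer.Fi23Class.K) q
  rwa [← MonoidHom.range_eq_map, MonoidHom.range_eq_top.2 hq, Subgroup.card_top, Subgroup.card_top,
    Cfsg.Agent.S1696.result.2] at h1

/-! ### Fi24' -/

open Cfsg.Spor Cfsg.Agent.R08 in
theorem cent_fi24 {K : Type*} [Group K] [Finite K] (h : Spor.IsoFi24' K) {r : ℕ} (hr : r.Prime)
    (hd : r ∣ 2 * 64561751654400) : Nr K r := by
  obtain ⟨e⟩ := h
  rw [nr_congr e]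
  have hf : Finite Spor.Fi24' := Finite.of_equiv _ e.toEquiv
  have h := KFacts.FiTF.Tet.isTet (t := 0) (by norm_num)
  generalize KFacts.FiTF.Defs.D 0 0 = a at h
  generalize KFacts.FiTF.Defs.D 0 1 = b at h
  generalize KFacts.FiTF.Defs.D 0 2 = c at h
  generalize KFacts.FiTF.Defs.D 0 3 = d at h
  obtain ⟨P⟩ := TetFi24A.exists_at h.ha h.hb h.nab h.ab.eq
  have aa : a * a = 1 := FiTwentyFour.sq h.ha
  have ba : b * a = a * b := h.ab.eq.symm
  have ev : a * b ∈ commutator Fi24 := FiTwentyFour.even h.ha h.hb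
  have sq2 : a * b * (a * b) = 1 := by
    calc a * b * (a * b) = a * (b * a) * b := by group
      _ = (a * a) * (b * b) := by rw [ba]; group
      _ = 1 := by rw [aa, one_mul, FiTwentyFour.sq h.hb]
  refine nr_of_le (t := (⟨a * b, ev⟩ : Spor.Fi24')) (orderOf_two (Subtype.ext sq2) ?_) hr
    (H := CTwoTab.FiTF.N a b) (fun x hx => mem_centralizer_singleton_iff.1 (CTwoTab.FiTF.N_le (t := (⟨a * b, ev⟩ : Spor.Fi24')) rfl hx)) ?_
  · exact fun h1 => OddHalf.D4.Spor.FiTF.pair_ne h.hb h.nab (congrArg Subtype.val h1)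
  · rw [Nat.card_congr (CTwoTab.FiTF.eN a b).toEquiv, OddHalf.D4.Spor.FiTF.card_Cab P]
    exact hd

end Cfsg.Agent.H94.PG.Sp
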