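import Cfsg.Agent.H94.Sp.Janko
import Cfsg.Agent.KFacts.HN.Classes
import Cfsg.Agent.MonsterX.ThOneClass
import Cfsg.Agent.BM.KHAll
import Cfsg.Agent.KFacts.Baby.RowB
import Cfsg.Agent.BabyM.Instance
import Cfsg.Agent.CTwoTab.Monster

/-!
# Primes adjacent to 2 in HN, Th, B, M (helper94)
-/

set_option autoImplicit false
set_option linter.unusedVariables false

namespace Cfsg.Agent.H94.PG.Sp

open Subgroup Cfsg

/-! ### HN -/

theorem cent_hn {K : Type*} [Group K] (h : Spor.IsoHN K) {r : ℕ} (hr : r.Prime) (hd : r ∣ 177408000) :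
    Nr K r := by
  obtain ⟨e⟩ := h
  rw [nr_congr e]
  have hf : Finite Spor.HN := KFacts.HN.YTrick.finiteHN
  refine nr_of_sq (t := Cfsg.Agent.HN.NormalH.ψ Cfsg.Agent.HN.H0Basic.τ) ?_ KFacts.HN.Classes.card_centralizer_τ
    (by rw [KFacts.HN.Classes.card_HN]; norm_num) hr hd
  rw [← map_mul, Cfsg.Agent.HN.H0Basic.τ_mul_τ, map_one]

/-! ### Th -/

theorem cent_th {K : Type*} [Group K] (h : Spor.IsoTh K) {r : ℕ} (hr : r.Prime) (hd : r ∣ 92897280) :
    Nr K r := by
  obtain ⟨e⟩ := h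
  rw [nr_congr e]
  have hf : Finite Spor.Th := Cfsg.Agent.Th.Main1700.final.1
  exact nr_of_cent Cfsg.Agent.MonsterX.ThOneClass.orderOf_a hr (by rw [Cfsg.Agent.MonsterX.ThOneClass.card_a]; exact hd)

/-! ### B -/

theorem card_B' : Nat.card Spor.BabyMonster = 4154781481226426191177580544000000 := BM.KHAll.isB.2

theorem gB_sq (t : Spor.BabyMonster.Gen) (ht : t ∈ Spor.coxNodes Spor.BabyMonster.edges) :
    Cfsg.Agent.BM.StageBFinalOf.gB t * Cfsg.Agent.BM.StageBFinalOf.gB t = 1 := by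
  have h := PresentedGroup.one_of_mem (rels := Spor.coxRelators Spor.BabyMonster.edges ∪ {r | r ∈ Spor.BabyMonster.extra})
    (x := (FreeGroup.of t * FreeGroup.of t) ^ 1) (Or.inl ⟨t, ht, t, ht, by simp [Spor.coxLabel]⟩)
  rw [pow_one, map_mul] at h
  exact h

theorem cent_b {K : Type*} [Group K] (h : Spor.IsoB K) {r : ℕ} (hr : r.Prime)
    (hd : r ∣ 306129918735099415756800 * 42305421312000) : Nr K r := by
  have hfB : Finite Spor.BabyMonster := Nat.finite_of_card_ne_zero (by rw [card_B']; norm_num)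
  rcases hr.dvd_mul.1 hd with h1 | h1
  · obtain ⟨e⟩ := h
    rw [nr_congr e]
    have hc := BM.KHAll.card_cent .t1
    refine nr_of_cent (orderOf_two ?_ ?_) hr (by rw [hc]; exact h1)
    · exact gB_sq _ (by decide)
    · intro h2
      rw [h2] at hc
      have : centralizer ({1} : Set Spor.BabyMonster) = ⊤ := by
        rw [eq_top_iff]
        intro x _
        rw [mem_centralizer_singleton_iff]
        simp
      rw [this, Subgroup.card_top, card_B'] at hc
      norm_num at hc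
  · obtain ⟨f⟩ := KFacts.Baby.RowB.exists_iso h
    obtain ⟨e⟩ := h
    rw [← nr_congr f]
    have hf : Finite BabyM.Inst.M.G := Finite.of_equiv _ (f.trans e).symm.toEquiv
    have A := BabyM.Instance.all
    obtain ⟨π, hπ, -⟩ := A.grp.quot
    have hzC := A.grp.Q_le A.grp.z_mem
    refine nr_of_le (t := (⟨_, A.C_le_G hzC⟩ : BabyM.Inst.M.G)) (orderOf_two (Subtype.ext A.grp.z_sq)
      (fun h => A.grp.z_ne (congrArg Subtype.val h))) hr (H := BabyM.Inst.M.C.subgroupOf BabyM.Inst.M.G)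
      (fun x hx => Subtype.ext (A.grp.z_comm _ hx)) ?_
    rw [Nat.card_congr (Subgroup.subgroupOfEquivOfLe A.C_le_G).toEquiv]
    have h2 := Subgroup.card_map_dvd (⊤ : Subgroup BabyM.Inst.M.C) π
    rw [← MonoidHom.range_eq_map, MonoidHom.range_eq_top.2 hπ, Subgroup.card_top, Subgroup.card_top, A.grp.card] at h2
    exact h1.trans h2

/-! ### M -/

theorem cent_m {K : Type*} [Group K] (h : Spor.IsoM K) {r : ℕ} (hr : r.Prime)
    (hd : r ∣ 2 * 4154781481226426191177580544000000) : Nr K r := by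
  obtain ⟨e⟩ := h
  obtain ⟨f⟩ := Cfsg.Agent.MonsterP.Equiv.equiv
  rw [nr_congr (e.trans f)]
  have A := Cfsg.Agent.MonsterU.Uncond.all
  have := Cfsg.Agent.MonsterX.MainBasic.G_finite A.hO
  have hb := Cfsg.Agent.MonsterX.MainPack.babyHyp A.hG A.hR A.hL A.hO A.hT A.hB
  exact nr_of_cent (orderOf_two hb.tt hb.t1) hr (by
    rw [Cfsg.Agent.MonsterX.MainPack.card_cent_t A.hG A.hR A.hL A.hO A.hT]; exact hd)

end Cfsg.Agent.H94.PG.Sp
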