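import Cfsg.Agent.H94.Sp.Base
import Cfsg.Agent.KFacts.J4.Base
import Cfsg.Agent.KFacts.J4.SheetJ4
import Cfsg.Agent.CpAutTits.Row
import Cfsg.Agent.TitsK.Facts

/-!
# Primes adjacent to 2 in J4 and the Tits group (helper94)
-/

set_option autoImplicit false
set_option linter.unusedVariables false

namespace Cfsg.Agent.H94.PG.Sp

open Subgroup Cfsg

/-! ### J4 -/

theorem cent_j4 {K : Type*} [Group K] (h : Spor.IsoJ4 K) {r : ℕ} (hr : r.Prime) (hd : r ∣ Nat.card Spor.M22) :
    Nr K r := by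
  obtain ⟨hf, -, ⟨F⟩⟩ := KFacts.J4.Base.exists_full h
  let C := F.C.toCent
  refine nr_of_le (t := C.z) C.z_order hr (H := KFacts.J4.Base.MM C) (fun x hx => KFacts.J4.Base.comm_z hx) ?_
  refine hd.trans ?_
  have h1 := Subgroup.card_map_dvd (⊤ : Subgroup (KFacts.J4.Base.MM C)) (KFacts.J4.AutP.pi C)
  rwa [← MonoidHom.range_eq_map, MonoidHom.range_eq_top.2 (KFacts.J4.AutP.pi_surjective C), Subgroup.card_top,
    Subgroup.card_top] at h1

/-! ### the Tits group -/

theorem eq_of_mul_self {G : Type*} [Group G] {a b : G} (h : a * b = 1) (hb : b * b = 1) : a = b := by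
  rw [eq_inv_of_mul_eq_one_left h, inv_eq_of_mul_eq_one_left hb]

section tits


open Cfsg.Agent.TitsK Cfsg.Lie
open Cfsg.Agent.FourTwo.Base hiding bar bar_lt
open Cfsg.Agent.FourTwo.BN Cfsg.Agent.FourTwo.Comm Cfsg.Agent.FourTwo.Classes
open Cfsg.Agent.FourTwo.UCode (mulU invU conjU)

theorem na_d : na * d * na⁻¹ = d := by
  have h := nw_conj_ec (w := [0, 3]) (e := 2129920) (by decide) (by decide +kernel)
  have e : reflW [0, 3] 2129920 = 2129920 := by decide +kernel
  rw [e] at h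
  exact h

theorem ya_d : ya * d = d * ya := by
  rw [ya_eq]
  show ec 513 * ec 2129920 = ec 2129920 * ec 513
  rw [← ec_mulU, ← ec_mulU, show mulU 513 2129920 = mulU 2129920 513 by decide +kernel]

theorem ya_ya : ya * ya = 1 := by
  rw [ya_eq, ← ec_mulU, show mulU 513 513 = 0 by decide +kernel, ec_zero]

theorem d_d : d * d = 1 := by
  show ec 2129920 * ec 2129920 = 1
  rw [← ec_mulU, show mulU 2129920 2129920 = 0 by decide +kernel, ec_zero]

theorem yam_yam : yam * yam = 1 := by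
  rw [← na_conj_ya]
  calc na * ya * na⁻¹ * (na * ya * na⁻¹) = na * (ya * ya) * na⁻¹ := by group
    _ = 1 := by rw [ya_ya]; group

theorem yam_d : yam * d = d * yam := by
  rw [← na_conj_ya]
  have h1 : na * d = d * na := by
    calc na * d = (na * d * na⁻¹) * na := by group
      _ = d * na := by rw [na_d]
  have h2 : na⁻¹ * d = d * na⁻¹ := by
    calc na⁻¹ * d = na⁻¹ * (d * na) * na⁻¹ := by group
      _ = d * na⁻¹ := by rw [← h1]; group
  calc na * ya * na⁻¹ * d = na * ya * (na⁻¹ * d) := by group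
    _ = na * (ya * d) * na⁻¹ := by rw [h2]; group
    _ = (na * d) * ya * na⁻¹ := by rw [ya_d]; group
    _ = d * (na * ya * na⁻¹) := by rw [h1]; group

theorem ya_inv : ya⁻¹ = ya := inv_eq_of_mul_eq_one_left ya_ya
theorem yam_inv : yam⁻¹ = yam := inv_eq_of_mul_eq_one_left yam_yam

theorem na_inv : na⁻¹ = ya * yam * ya := by
  rw [na_eq, mul_inv_rev, mul_inv_rev, ya_inv, yam_inv, mul_assoc]

theorem x_three : (ya * yam) ^ 3 = 1 := by
  have h := na_conj_ya
  rw [na_inv, na_eq] at h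
  calc (ya * yam) ^ 3 = ya * yam * ya * yam * ya * yam := by
        rw [pow_succ, pow_two]; group
    _ = ya * yam * (ya * ya * ya) * yam * ya * yam := by rw [ya_ya, one_mul]
    _ = (ya * yam * ya * ya * (ya * yam * ya)) * yam := by group
    _ = 1 := by rw [h, yam_yam]

theorem x_ne : ya * yam ≠ 1 := by
  intro h
  have h0 : ya * yam = yam * yam := by rw [h, yam_yam]
  have h1 : ya = yam := mul_right_cancel h0
  have h2 : na = ya := by rw [na_eq, ← h1, ya_ya, one_mul]
  have h3 := na_conj_z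
  rw [h2, z_central ya_mem] at h3
  have h4 : ec 9437184 = ec 4259840 := h3
  have h5 := ec_inj (by norm_num) (by norm_num) h4
  exact absurd h5 (by decide)

theorem yam_mem_TT : yam ∈ TT := by
  have h : yam = ya * na * ya := by
    rw [na_eq]
    calc yam = (ya * ya) * yam * (ya * ya) := by rw [ya_ya]; group
      _ = _ := by group
  rw [h]
  exact mul_mem (mul_mem ya_mem_TT na_mem_TT) ya_mem_TT

theorem order_of_sub {G : Type*} [Group G] {H : Subgroup G} {x : G} (hx : x ∈ H) {p : ℕ} (hp : p.Prime) (h : x ^ p = 1)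
    (h1 : x ≠ 1) : orderOf (⟨x, hx⟩ : H) = p := by
  have : Fact p.Prime := ⟨hp⟩
  rw [Subgroup.orderOf_mk]
  exact orderOf_eq_prime h h1

theorem nr_of_sub {G : Type*} [Group G] {H : Subgroup G} [Finite H] {x y : G} (hx : x ∈ H) (hy : y ∈ H) {r : ℕ}
    (hr : r.Prime) (hxr : x ^ r = 1) (hx1 : x ≠ 1) (hy2 : y * y = 1) (hy1 : y ≠ 1) (hc : x * y = y * x) : Nr H r :=
  nr_of_dvd hr (x := (⟨x, hx⟩ : H)) (y := ⟨y, hy⟩) (Subtype.ext hc) (by rw [order_of_sub hx hr hxr hx1])
    (by rw [order_of_sub hy Nat.prime_two (by rw [pow_two]; exact hy2) hy1])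

theorem nr_of_equiv_sub {K G : Type*} [Group K] [Finite K] [Group G] {H : Subgroup G} (e : K ≃* H) {x y : G}
    (hx : x ∈ H) (hy : y ∈ H) {r : ℕ} (hr : r.Prime) (hxr : x ^ r = 1) (hx1 : x ≠ 1) (hy2 : y * y = 1) (hy1 : y ≠ 1)
    (hc : x * y = y * x) : Nr K r := by
  have : Finite H := Finite.of_equiv _ e.toEquiv
  rw [nr_congr e]
  exact nr_of_sub hx hy hr hxr hx1 hy2 hy1 hc

theorem x_d : ya * yam * d = d * (ya * yam) := by
  rw [mul_assoc, yam_d, ← mul_assoc, ya_d, mul_assoc]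

theorem tits_three {K : Type*} [Group K] [Finite K] (h : Lie.IsoTits K) : Nr K 3 := by
  obtain ⟨e⟩ := CpAutTits.Row.exists_equiv h
  exact nr_of_equiv_sub e (mul_mem ya_mem_TT yam_mem_TT) d_mem_TT Nat.prime_three x_three x_ne d_d d_ne x_d

theorem tits_five {K : Type*} [Group K] [Finite K] (h : Lie.IsoTits K) : Nr K 5 := by
  have O := CpAutTits.Row.out h
  have : Fact (Nat.Prime 5) := ⟨by norm_num⟩
  have : Fact (Nat.Prime 2) := ⟨Nat.prime_two⟩
  obtain ⟨y, hy⟩ := exists_prime_orderOf_dvd_card' (G := K) 5 (by rw [O.card]; norm_num)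
  obtain ⟨t, ht⟩ := exists_prime_orderOf_dvd_card' (G := centralizer ({y} : Set K)) 2 (by rw [O.cent y hy]; norm_num)
  exact nr_of_dvd (by norm_num) (x := y) (y := (t : K)) (Commute.symm (mem_centralizer_singleton_iff.1 t.2))
    (by rw [hy]) (by rw [Subgroup.orderOf_coe, ht])

end tits

end Cfsg.Agent.H94.PG.Sp
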