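import Cfsg.Agent.H94.Sp.Base
import Cfsg.Agent.KFacts.MM.Cent
import Cfsg.Agent.S0435
import Cfsg.Agent.CoThreeStd.MTwelveCent
import Cfsg.Agent.UGT.End.MEleven

/-!
# Prime graphs of the Mathieu groups (helper94)
-/

set_option autoImplicit false
set_option linter.unusedVariables false

namespace Cfsg.Agent.H94.PG.Sp

open Subgroup Cfsg Cfsg.Agent.SporadicA.GolayPerm Cfsg.Agent.KFacts.MM.El Cfsg.Agent.KFacts.MM.Cent

/-- the primes dividing a number with a given factorisation -/
theorem mem_of_dvd {N : ℕ} (L : List ℕ) (hL : ∀ p ∈ L, p.Prime) (k : ℕ) (h : N ∣ L.prod ^ k) {r : ℕ} (hr : r.Prime)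
    (hd : r ∣ N) : r ∈ L := by
  have h1 : r ∣ L.prod := hr.dvd_of_dvd_pow (hd.trans h)
  obtain ⟨a, ha, hra⟩ := (Prime.dvd_prod_iff hr.prime).1 h1
  rwa [(Nat.prime_dvd_prime_iff_eq hr (hL a ha)).1 hra]

/-- commuting packed permutations of prime orders -/
def chk (r P Q : ℕ) : Bool :=
  okl [P, Q] && (weq [P, P] [] && (!weq [P] [] && (weq (List.replicate r Q) [] && (!weq [Q] [] &&
    weq [P, Q] [Q, P]))))

theorem pr_replicate (r Q : ℕ) : pr (List.replicate r Q) = pm Q ^ r := by
  induction r with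
  | zero => rfl
  | succ r ih => rw [List.replicate_succ, pr_cons, ih, pow_succ']

theorem okl_replicate {Q : ℕ} (h : isPerm Q = true) (r : ℕ) : okl (List.replicate r Q) = true := by
  unfold okl
  rw [List.all_eq_true]
  intro x hx
  rw [List.mem_replicate] at hx
  rw [hx.2]
  exact h

theorem nr_of_chk {K : Subgroup (Equiv.Perm GolayPt)} [Finite K] {r P Q : ℕ} (hr : r.Prime) (h : chk r P Q = true)
    (hP : pm P ∈ K) (hQ : pm Q ∈ K) : Nr K r := by
  unfold chk at h
  simp only [Bool.and_eq_true, Bool.not_eq_true'] at h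
  obtain ⟨h0, h1, h2, h3, h4, h5⟩ := h
  have hP0 := (okl_cons h0).1
  have hQ0 := (okl_cons (okl_cons h0).2).1
  have okn : okl [] = true := rfl
  have ok1 : okl [P] = true := by unfold okl; simp [hP0]
  have ok2 : okl [Q] = true := by unfold okl; simp [hQ0]
  have ok3 : okl [P, P] = true := by unfold okl; simp [hP0]
  have ok4 : okl [Q, P] = true := by unfold okl; simp [hP0, hQ0]
  have e1 : pm P * pm P = 1 := by
    have := pr_of_weq ok3 okn h1
    rwa [pr_cons, pr_one, pr_nil] at this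
  have e2 : pm P ≠ 1 := by
    have := pr_ne ok1 okn h2
    rwa [pr_one, pr_nil] at this
  have e3 : pm Q ^ r = 1 := by
    have := pr_of_weq (okl_replicate hQ0 r) okn h3
    rwa [pr_replicate, pr_nil] at this
  have e4 : pm Q ≠ 1 := by
    have := pr_ne ok2 okn h4
    rwa [pr_one, pr_nil] at this
  have e5 : pm P * pm Q = pm Q * pm P := by
    have := pr_of_weq h0 ok4 h5
    rwa [pr_cons, pr_one, pr_cons, pr_one] at this
  have : Fact r.Prime := ⟨hr⟩
  have o1 : orderOf (⟨pm P, hP⟩ : K) = 2 := orderOf_two (Subtype.ext e1) (fun h => e2 (congrArg Subtype.val h))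
  have o2 : orderOf (⟨pm Q, hQ⟩ : K) = r := orderOf_eq_prime (Subtype.ext e3) (fun h => e4 (congrArg Subtype.val h))
  exact nr_of_dvd hr (x := (⟨pm Q, hQ⟩ : K)) (y := ⟨pm P, hP⟩) (Subtype.ext e5.symm) (by rw [o2]) (by rw [o1])

/-! ### M22, M23, M24 -/

def a22 : ℕ := 977657271623414012574802371542661472
def b22 : ℕ := 984007854323375074608373704781119104
def a23 : ℕ := 979615296124383133266278775820486695
def b23 : ℕ := 970293405502884785852497155282547781
def a24 : ℕ := 796465809752061539963355635147811017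
def b24 : ℕ := 319947852076166899900650320933537382

theorem m22_three : Nr Spor.M22 3 :=
  nr_of_chk (by norm_num) (P := a22) (Q := b22) (by decide +kernel)
    (mem_of_ok22 (by decide +kernel)).2 (mem_of_ok22 (by decide +kernel)).2

/-- membership test for `M24` -/
def ok24 (P : ℕ) : Bool := isPerm P && isAut P

theorem mem_of_ok24 {P : ℕ} (h : ok24 P = true) : pm P ∈ M24 := by
  unfold ok24 at h
  rw [Bool.and_eq_true] at h
  exact pm_mem_M24 h.1 h.2

/-- membership test for `M23` -/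
def ok23 (P : ℕ) : Bool := isPerm P && (isAut P && Nat.beq (papp P 23) 23)

theorem mem_of_ok23 {P : ℕ} (h : ok23 P = true) : pm P ∈ Spor.M23 := by
  unfold ok23 at h
  rw [Bool.and_eq_true, Bool.and_eq_true] at h
  obtain ⟨h1, h2, h3⟩ := h
  refine (SporadicA.MathieuRecog.mem_M23_iff _).2 ⟨pm_mem_M24 h1 h2, ?_⟩
  have h5 := val_pm h1 (i := 23) (by norm_num)
  rw [Nat.eq_of_beq_eq_true h3] at h5
  have h6 := pt_val (pm P) 23
  rw [h5] at h6
  exact h6.symm

theorem m23_seven : Nr Spor.M23 7 :=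
  nr_of_chk (by norm_num) (P := a23) (Q := b23) (by decide +kernel)
    (mem_of_ok23 (by decide +kernel)) (mem_of_ok23 (by decide +kernel))

theorem m24_five : Nr M24 5 :=
  nr_of_chk (by norm_num) (P := a24) (Q := b24) (by decide +kernel)
    (mem_of_ok24 (by decide +kernel)) (mem_of_ok24 (by decide +kernel))

theorem nr_mono {G : Type*} [Group G] {H K : Subgroup G} (h : H ≤ K) {p : ℕ} (hc : Nr H p) : Nr K p :=
  hc.map (Subgroup.inclusion h) (Subgroup.inclusion_injective h)

theorem m23_three : Nr Spor.M23 3 := nr_mono (fun _ h => SporadicA.MathieuRecog.M22_le h) m22_three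

theorem m24_three : Nr M24 3 := nr_mono (fun _ h => M22_le24 h) m22_three

theorem m24_seven : Nr M24 7 := nr_mono (fun _ h => M23_le24 h) m23_seven

/-- **M22** -/
theorem nr_m22 {r : ℕ} (hr : r.Prime) (hd : r ∣ 443520) (hR : r ∉ [5, 7, 11]) : Nr Spor.M22 r := by
  have h := mem_of_dvd [2, 3, 5, 7, 11] (by simp; norm_num) 7 (by norm_num) hr hd
  simp only [List.mem_cons, List.not_mem_nil, or_false, not_or] at h hR
  obtain ⟨h5, h7, h11⟩ := hR
  rcases h with rfl | rfl | rfl | rfl | rfl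
  · exact nr_two
  · exact m22_three
  · exact absurd rfl h5
  · exact absurd rfl h7
  · exact absurd rfl h11

/-- **M23** -/
theorem nr_m23 {r : ℕ} (hr : r.Prime) (hd : r ∣ 10200960) (hR : r ∉ [5, 11, 23]) : Nr Spor.M23 r := by
  have h := mem_of_dvd [2, 3, 5, 7, 11, 23] (by simp; norm_num) 7 (by norm_num) hr hd
  simp only [List.mem_cons, List.not_mem_nil, or_false, not_or] at h hR
  obtain ⟨h5, h7, h11⟩ := hR
  rcases h with rfl | rfl | rfl | rfl | rfl | rfl
  · exact nr_two
  · exact m23_three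
  · exact absurd rfl h5
  · exact m23_seven
  · exact absurd rfl h7
  · exact absurd rfl h11

/-- **M24** -/
theorem nr_m24 {r : ℕ} (hr : r.Prime) (hd : r ∣ 244823040) (hR : r ∉ [11, 23]) : Nr M24 r := by
  have h := mem_of_dvd [2, 3, 5, 7, 11, 23] (by simp; norm_num) 10 (by norm_num) hr hd
  simp only [List.mem_cons, List.not_mem_nil, or_false, not_or] at h hR
  obtain ⟨h7, h11⟩ := hR
  rcases h with rfl | rfl | rfl | rfl | rfl | rfl
  · exact nr_two
  · exact m24_three
  · exact m24_five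
  · exact m24_seven
  · exact absurd rfl h7
  · exact absurd rfl h11

/-- **M12** -/
theorem nr_m12 {r : ℕ} (hr : r.Prime) (hd : r ∣ 95040) (hR : r ∉ [11]) : Nr Spor.M12 r := by
  have h := mem_of_dvd [2, 3, 5, 11] (by simp; norm_num) 6 (by norm_num) hr hd
  simp only [List.mem_cons, List.not_mem_nil, or_false, not_or] at h hR
  have hf : Finite Spor.M12 := inferInstance
  have hy : orderOf (Cfsg.Agent.CoThreeStd.MTwelve.y : Spor.M12) = 2 :=
    orderOf_two Cfsg.Agent.CoThreeStd.MTwelve.y_sq Cfsg.Agent.CoThreeStd.MTwelve.y_ne_one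
  rcases h with rfl | rfl | rfl | rfl
  · exact nr_two
  · exact nr_of_cent hy hr (by rw [Cfsg.Agent.CoThreeStd.MTwelve.card_cent_y]; norm_num)
  · exact nr_of_cent hy hr (by rw [Cfsg.Agent.CoThreeStd.MTwelve.card_cent_y]; norm_num)
  · exact absurd rfl hR

/-- **M11** -/
theorem nr_m11 {r : ℕ} (hr : r.Prime) (hd : r ∣ 7920) (hR : r ∉ [5, 11]) : Nr Spor.M11 r := by
  have h := mem_of_dvd [2, 3, 5, 11] (by simp; norm_num) 4 (by norm_num) hr hd
  simp only [List.mem_cons, List.not_mem_nil, or_false, not_or] at h hR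
  have hf : Finite Spor.M11 := inferInstance
  have hM : IsM11 Spor.M11 := UGT.End.MEleven.isM11 ⟨MulEquiv.refl _⟩
  have : Fact (Nat.Prime 2) := ⟨Nat.prime_two⟩
  obtain ⟨t, ht⟩ := exists_prime_orderOf_dvd_card' (G := Spor.M11) 2 (by rw [hM.2]; norm_num)
  rcases h with rfl | rfl | rfl | rfl
  · exact nr_two
  · exact nr_of_cent ht hr (by rw [S0435.result hM t ht]; norm_num)
  · exact absurd rfl hR.1
  · exact absurd rfl hR.2

end Cfsg.Agent.H94.PG.Sp
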